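import Cfsg.Agent.Helper71.BSW.DefsCT
import Cfsg.Agent.Helper74.CharBasic
import Cfsg.Agent.Helper15.IndChar
import Cfsg.Agent.Helper79.CharComplete

/-!
# Piece (S5a) for helper71's S3282 (abstract Brauer–Suzuki–Wall): shape (A): degree relations,
congruence, and the two F-equations.
-/

set_option autoImplicit false

namespace Cfsg.Agent.Helper52.BSW

open Cfsg Cfsg.Agent.Helper71.BSW
open scoped ComplexConjugate

/-- collapse a sum against a Kronecker delta -/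
theorem sum_mul_ind {α : Type*} [Fintype α] (g : α → ℂ) (a : α) :
    ∑ χ, g χ * ind χ a = g a := by
  classical
  rw [Finset.sum_eq_single a]
  · rw [ind_self, mul_one]
  · intro b _ hb
    rw [ind_of_ne hb, mul_zero]
  · intro h
    exact absurd (Finset.mem_univ a) h

theorem s_equations {G : Type*} [Group G] [Fintype G] [Fintype (IrrCharacter G)] {t s : G}
    {K : Subgroup G}
    [Fintype ↥K] [Fintype (↥K →* ℂˣ)]
    {triv : IrrCharacter G} {σ : K →* ℂˣ} {δ : ℤ} {X : IrrCharacter G}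
    {Λ : (K →* ℂˣ) → IrrCharacter G} {Y₁ Y₂ : IrrCharacter G} {ε₁ ε₂ : ℤ}
    (h : Hyp t s K) (hk : 4 ≤ Nat.card K) (T : FactsT t s K)
    (SA : ShapeA K triv σ δ X Λ Y₁ Y₂ ε₁ ε₂)
    (hvX : ∀ y ∈ K, y ≠ 1 → (X : G → ℂ) y = δ)
    (hvΛ : ∀ μ : K →* ℂˣ, μ ≠ 1 → μ ≠ σ → (Λ μ : G → ℂ) t ^ 2 = 4)
    (hvY : (Y₁ : G → ℂ) t ^ 2 = 1 ∧ (Y₂ : G → ℂ) t ^ 2 = 1)
    (hvo : ∀ χ : IrrCharacter G, χ ≠ triv → χ ≠ X → χ ≠ Y₁ → χ ≠ Y₂ →
      (∀ μ : K →* ℂˣ, μ ≠ 1 → μ ≠ σ → χ ≠ Λ μ) → ∀ y ∈ K, y ≠ 1 → (χ : G → ℂ) y = 0) :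
    ∃ x y₁ y₂ : ℕ, 0 < x ∧ 0 < y₁ ∧ 0 < y₂ ∧ (X : G → ℂ) 1 = x ∧ (Y₁ : G → ℂ) 1 = y₁ ∧
      (Y₂ : G → ℂ) 1 = y₂ ∧ 0 < (x : ℤ) + δ ∧
      (∀ μ : K →* ℂˣ, μ ≠ 1 → μ ≠ σ → (Λ μ : G → ℂ) 1 = (x : ℂ) + δ) ∧
      (Nat.card K : ℤ) ∣ (x : ℤ) - δ ∧
      (1 + (δ : ℚ) / x - 4 * δ / (x + δ)) * (Nat.card G : ℚ) = 4 * (Nat.card K : ℚ) ^ 3 ∧
      (ε₁ : ℚ) / y₁ + (ε₂ : ℚ) / y₂ = -4 * δ / (x + δ) ∧
      δ * x + ε₁ * y₁ + ε₂ * y₂ = -1 := by
  classical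
  -- degrees
  obtain ⟨x, hx⟩ : ∃ x : ℕ, x = charDegree (X : G → ℂ) := ⟨_, rfl⟩
  obtain ⟨y₁, hy₁⟩ : ∃ y : ℕ, y = charDegree (Y₁ : G → ℂ) := ⟨_, rfl⟩
  obtain ⟨y₂, hy₂⟩ : ∃ y : ℕ, y = charDegree (Y₂ : G → ℂ) := ⟨_, rfl⟩
  have hX1 : (X : G → ℂ) 1 = x := by rw [hx]; exact Helper79.irr_one X
  have hY1 : (Y₁ : G → ℂ) 1 = y₁ := by rw [hy₁]; exact Helper79.irr_one Y₁
  have hY2 : (Y₂ : G → ℂ) 1 = y₂ := by rw [hy₂]; exact Helper79.irr_one Y₂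
  have hxpos : 0 < x := by rw [hx]; exact Helper79.irr_charDegree_pos X
  have hy1pos : 0 < y₁ := by rw [hy₁]; exact Helper79.irr_charDegree_pos Y₁
  have hy2pos : 0 < y₂ := by rw [hy₂]; exact Helper79.irr_charDegree_pos Y₂
  have hδ2 : (δ : ℂ) * δ = 1 := by
    rcases SA.hδ with h1 | h1 <;> simp [h1]
  have ht1 : t ≠ 1 := by
    intro h0
    have := h.ht
    rw [h0, orderOf_one] at this
    norm_num at this
  have hXt : (X : G → ℂ) t = δ := hvX t h.htK ht1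
  -- a non-real linear character
  obtain ⟨μ₀, hμ1, hμσ⟩ : ∃ μ₀ : K →* ℂˣ, μ₀ ≠ 1 ∧ μ₀ ≠ σ := by
    by_contra hcon
    push Not at hcon
    have hle : Fintype.card (K →* ℂˣ) ≤ 2 := by
      calc Fintype.card (K →* ℂˣ) = (Finset.univ : Finset (K →* ℂˣ)).card := rfl
        _ ≤ ({1, σ} : Finset (K →* ℂˣ)).card := by
            apply Finset.card_le_card
            intro μ _
            by_cases h1 : μ = 1
            · simp [h1]
            · simp [hcon μ h1]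
        _ ≤ 2 := Finset.card_le_two
    rw [T.card_dual] at hle
    omega
  -- degree of `Λ μ`
  have hdegΛ : ∀ μ : K →* ℂˣ, μ ≠ 1 → μ ≠ σ → (Λ μ : G → ℂ) 1 = (x : ℂ) + δ := by
    intro μ h1 h2
    have h0 := T.theta_one μ
    rw [T.theta_expand μ 1] at h0
    have hterm : ∀ χ : IrrCharacter G, coef K μ χ * (χ : G → ℂ) 1 =
        (χ : G → ℂ) 1 * ind χ triv + δ * ((χ : G → ℂ) 1 * ind χ X) -
          δ * ((χ : G → ℂ) 1 * ind χ (Λ μ)) := by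
      intro χ
      rw [SA.coef_nonreal μ h1 h2 χ]
      ring
    rw [Finset.sum_congr rfl (fun χ _ => hterm χ), Finset.sum_sub_distrib, Finset.sum_add_distrib,
      ← Finset.mul_sum, ← Finset.mul_sum,
      sum_mul_ind (fun χ : IrrCharacter G => (χ : G → ℂ) 1) triv,
      sum_mul_ind (fun χ : IrrCharacter G => (χ : G → ℂ) 1) X,
      sum_mul_ind (fun χ : IrrCharacter G => (χ : G → ℂ) 1) (Λ μ), SA.triv_apply, hX1] at h0
    linear_combination (-(δ : ℂ)) * h0 - ((Λ μ : G → ℂ) 1 - x) * hδ2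
  -- the equation from `σ`
  have hsig : (1 : ℂ) + δ * x + ε₁ * y₁ + ε₂ * y₂ = 0 := by
    have h0 := T.theta_one σ
    rw [T.theta_expand σ 1] at h0
    have hterm : ∀ χ : IrrCharacter G, coef K σ χ * (χ : G → ℂ) 1 =
        (χ : G → ℂ) 1 * ind χ triv + δ * ((χ : G → ℂ) 1 * ind χ X) +
          ε₁ * ((χ : G → ℂ) 1 * ind χ Y₁) + ε₂ * ((χ : G → ℂ) 1 * ind χ Y₂) := by
      intro χ
      rw [SA.coef_sigma χ]
      ring
    rw [Finset.sum_congr rfl (fun χ _ => hterm χ), Finset.sum_add_distrib, Finset.sum_add_distrib,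
      Finset.sum_add_distrib, ← Finset.mul_sum, ← Finset.mul_sum, ← Finset.mul_sum,
      sum_mul_ind (fun χ : IrrCharacter G => (χ : G → ℂ) 1) triv,
      sum_mul_ind (fun χ : IrrCharacter G => (χ : G → ℂ) 1) X,
      sum_mul_ind (fun χ : IrrCharacter G => (χ : G → ℂ) 1) Y₁,
      sum_mul_ind (fun χ : IrrCharacter G => (χ : G → ℂ) 1) Y₂, SA.triv_apply, hX1, hY1, hY2] at h0
    exact h0
  have hsigZ : δ * x + ε₁ * y₁ + ε₂ * y₂ = -1 := by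
    have : ((δ * x + ε₁ * y₁ + ε₂ * y₂ : ℤ) : ℂ) = ((-1 : ℤ) : ℂ) := by
      push_cast
      linear_combination hsig
    exact_mod_cast this
  -- positivity of `x + δ`
  have hpos : 0 < (x : ℤ) + δ := by
    have h1 := hdegΛ μ₀ hμ1 hμσ
    rw [Helper79.irr_one (Λ μ₀)] at h1
    have h2 : ((charDegree (Λ μ₀ : G → ℂ) : ℤ) : ℂ) = (((x : ℤ) + δ : ℤ) : ℂ) := by
      push_cast
      exact h1
    have h3 : (charDegree (Λ μ₀ : G → ℂ) : ℤ) = (x : ℤ) + δ := by exact_mod_cast h2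
    rw [← h3]
    exact_mod_cast Helper79.irr_charDegree_pos (Λ μ₀)
  -- the congruence
  have hcong : (Nat.card K : ℤ) ∣ (x : ℤ) - δ := by
    have c1 : IsCharacter K (fun w : K => (X : G → ℂ) w) :=
      Helper74.isCharacter_restrict K (Helper74.irr_isCharacter X)
    have c2 : IsCharacter K (fun _ : K => (1 : ℂ)) := Helper74.isCharacter_one
    obtain ⟨m, hm⟩ := Helper15.isCharacter_inner_nat c1 c2
    unfold classInner at hm
    have hKne : (Nat.card K : ℂ) ≠ 0 := by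
      have : 0 < Nat.card K := by omega
      exact_mod_cast this.ne'
    have hsum : ∑ w : K, (X : G → ℂ) w * conj (1 : ℂ) = (Nat.card K : ℂ) * δ + ((x : ℂ) - δ) := by
      have hterm : ∀ w : K, (X : G → ℂ) w * conj (1 : ℂ) = δ + ((X : G → ℂ) w - δ) := by
        intro w
        rw [map_one, mul_one]
        ring
      rw [Finset.sum_congr rfl (fun w _ => hterm w), Finset.sum_add_distrib, Finset.sum_const,
        Finset.card_univ, nsmul_eq_mul, Nat.card_eq_fintype_card]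
      congr 1
      rw [Finset.sum_eq_single (1 : K)]
      · rw [Subgroup.coe_one, hX1]
      · intro w _ hw
        have hw1 : (w : G) ≠ 1 := fun h0 => hw (Subtype.ext h0)
        rw [hvX w w.2 hw1, sub_self]
      · intro h0
        exact absurd (Finset.mem_univ _) h0
    rw [hsum] at hm
    have hm' : (Nat.card K : ℂ) * δ + ((x : ℂ) - δ) = (Nat.card K : ℂ) * m := by
      rw [← hm, ← mul_assoc, mul_inv_cancel₀ hKne, one_mul]
    refine ⟨(m : ℤ) - δ, ?_⟩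
    have : (((x : ℤ) - δ : ℤ) : ℂ) = (((Nat.card K : ℤ) * ((m : ℤ) - δ) : ℤ) : ℂ) := by
      push_cast
      linear_combination hm'
    exact_mod_cast this
  -- the F-equations
  have hG : (Nat.card G : ℂ) ≠ 0 := by
    have : 0 < Nat.card G := Nat.card_pos
    exact_mod_cast this.ne'
  have hF1 : 1 + (δ : ℂ) / x - 4 * δ / (x + δ) = 4 * (Nat.card K : ℂ) ^ 3 / (Nat.card G : ℂ) := by
    have h0 := T.F_const μ₀ hμ1
    have hterm : ∀ χ : IrrCharacter G,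
        (χ : G → ℂ) t ^ 2 / (χ : G → ℂ) 1 * coef K μ₀ χ =
        (χ : G → ℂ) t ^ 2 / (χ : G → ℂ) 1 * ind χ triv +
          δ * ((χ : G → ℂ) t ^ 2 / (χ : G → ℂ) 1 * ind χ X) -
          δ * ((χ : G → ℂ) t ^ 2 / (χ : G → ℂ) 1 * ind χ (Λ μ₀)) := by
      intro χ
      rw [SA.coef_nonreal μ₀ hμ1 hμσ χ]
      ring
    rw [Finset.sum_congr rfl (fun χ _ => hterm χ), Finset.sum_sub_distrib, Finset.sum_add_distrib,
      ← Finset.mul_sum, ← Finset.mul_sum,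
      sum_mul_ind (fun χ : IrrCharacter G => (χ : G → ℂ) t ^ 2 / (χ : G → ℂ) 1) triv,
      sum_mul_ind (fun χ : IrrCharacter G => (χ : G → ℂ) t ^ 2 / (χ : G → ℂ) 1) X,
      sum_mul_ind (fun χ : IrrCharacter G => (χ : G → ℂ) t ^ 2 / (χ : G → ℂ) 1) (Λ μ₀),
      SA.triv_apply, SA.triv_apply, hX1, hXt, hvΛ μ₀ hμ1 hμσ, hdegΛ μ₀ hμ1 hμσ] at h0
    rw [← h0]
    have e1 : (δ : ℂ) * ((δ : ℂ) ^ 2 / x) = δ / x := by
      rw [show (δ : ℂ) * ((δ : ℂ) ^ 2 / x) = ((δ : ℂ) * δ) * δ / x by ring, hδ2, one_mul]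
    rw [e1]
    ring
  have hF2 : 1 + (δ : ℂ) / x + (ε₁ : ℂ) / y₁ + (ε₂ : ℂ) / y₂ =
      4 * (Nat.card K : ℂ) ^ 3 / (Nat.card G : ℂ) := by
    have h0 := T.F_const σ SA.hσ1
    have hterm : ∀ χ : IrrCharacter G,
        (χ : G → ℂ) t ^ 2 / (χ : G → ℂ) 1 * coef K σ χ =
        (χ : G → ℂ) t ^ 2 / (χ : G → ℂ) 1 * ind χ triv +
          δ * ((χ : G → ℂ) t ^ 2 / (χ : G → ℂ) 1 * ind χ X) +
          ε₁ * ((χ : G → ℂ) t ^ 2 / (χ : G → ℂ) 1 * ind χ Y₁) +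
          ε₂ * ((χ : G → ℂ) t ^ 2 / (χ : G → ℂ) 1 * ind χ Y₂) := by
      intro χ
      rw [SA.coef_sigma χ]
      ring
    rw [Finset.sum_congr rfl (fun χ _ => hterm χ), Finset.sum_add_distrib, Finset.sum_add_distrib,
      Finset.sum_add_distrib, ← Finset.mul_sum, ← Finset.mul_sum, ← Finset.mul_sum,
      sum_mul_ind (fun χ : IrrCharacter G => (χ : G → ℂ) t ^ 2 / (χ : G → ℂ) 1) triv,
      sum_mul_ind (fun χ : IrrCharacter G => (χ : G → ℂ) t ^ 2 / (χ : G → ℂ) 1) X,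
      sum_mul_ind (fun χ : IrrCharacter G => (χ : G → ℂ) t ^ 2 / (χ : G → ℂ) 1) Y₁,
      sum_mul_ind (fun χ : IrrCharacter G => (χ : G → ℂ) t ^ 2 / (χ : G → ℂ) 1) Y₂,
      SA.triv_apply, SA.triv_apply, hX1, hXt, hvY.1, hvY.2, hY1, hY2] at h0
    rw [← h0]
    have e1 : (δ : ℂ) * ((δ : ℂ) ^ 2 / x) = δ / x := by
      rw [show (δ : ℂ) * ((δ : ℂ) ^ 2 / x) = ((δ : ℂ) * δ) * δ / x by ring, hδ2, one_mul]
    rw [e1]
    ring
  have hFq1 : (1 + (δ : ℚ) / x - 4 * δ / (x + δ)) * (Nat.card G : ℚ) =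
      4 * (Nat.card K : ℚ) ^ 3 := by
    have hc : (1 + (δ : ℂ) / x - 4 * δ / (x + δ)) * (Nat.card G : ℂ) =
        4 * (Nat.card K : ℂ) ^ 3 := by
      rw [hF1, div_mul_cancel₀ _ hG]
    apply Rat.cast_injective (α := ℂ)
    push_cast
    exact hc
  have hFq2 : (ε₁ : ℚ) / y₁ + (ε₂ : ℚ) / y₂ = -4 * δ / (x + δ) := by
    have hc : (ε₁ : ℂ) / y₁ + (ε₂ : ℂ) / y₂ = -4 * δ / (x + δ) := by
      linear_combination hF2 - hF1
    apply Rat.cast_injective (α := ℂ)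
    push_cast
    exact hc
  exact ⟨x, y₁, y₂, hxpos, hy1pos, hy2pos, hX1, hY1, hY2, hpos, hdegΛ, hcong, hFq1, hFq2, hsigZ⟩

end Cfsg.Agent.Helper52.BSW
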